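import Cfsg.Agent.Lib.Helper44.FW.Defs

/-!
# FW package [CNT] (S3211 team project)

The count: strictly more square roots of `j` than of `t₀ = x₀ (n x₀ n⁻¹)` in `C(j) ∩ C(t₀)`.
-/

set_option autoImplicit false

namespace Cfsg.Agent.Lib.Helper39.FW

open Cfsg.Agent.Lib.Helper44.FW

universe u

/-- [CNT] the count. -/
theorem pkgCnt : PkgCnt.{u} := by
  intro G _ _ L₁ L₂ j n hC x₀ hx₀ hx₀sq hCY hPhi
  classical
  obtain ⟨a, b, hab⟩ := hCY
  -- notation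
  have hy₀L : n * x₀ * n⁻¹ ∈ L₂ := by
    rw [← hC.swap]
    exact ⟨x₀, hx₀, rfl⟩
  generalize hy₀def : n * x₀ * n⁻¹ = y₀ at hab hPhi hy₀L ⊢
  generalize ht₀def : x₀ * y₀ = t₀ at hab hPhi ⊢
  -- basic facts
  have hj1 : j ≠ 1 := by
    intro h
    have := hC.ord
    rw [h, orderOf_one] at this
    norm_num at this
  have hjsq : j ^ 2 = 1 := by rw [← hC.ord]; exact pow_orderOf_eq_one j
  have hjinv : j⁻¹ = j := by
    have hjj : j * j = 1 := by rw [← pow_two]; exact hjsq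
    exact inv_eq_of_mul_eq_one_left hjj
  have hnj : n * j = j * n := by
    have := hC.hn
    rw [Subgroup.mem_centralizer_iff] at this
    exact (this j (Set.mem_singleton j)).symm
  have hxy : x₀ * y₀ = y₀ * x₀ := hC.comm x₀ hx₀ y₀ hy₀L
  have hx₀j : x₀ * j = j * x₀ := by rw [← hx₀sq, pow_two, mul_assoc]
  have hy₀sq : y₀ ^ 2 = j := by
    rw [← hy₀def, conj_pow, hx₀sq, hnj, mul_inv_cancel_right]
  have hy₀j : y₀ * j = j * y₀ := by rw [← hy₀sq, pow_two, mul_assoc]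
  have hx₀t : x₀ * t₀ = t₀ * x₀ := by
    rw [← ht₀def, mul_assoc x₀ y₀ x₀, ← hxy]
  have hy₀t : y₀ * t₀ = t₀ * y₀ := by
    rw [← ht₀def, ← mul_assoc, ← hxy]
  have hnx : n * x₀ = y₀ * n := by rw [← hy₀def]; group
  have hnn : n * n = j := by rw [← pow_two]; exact hC.hn2
  have hny : n * y₀ = x₀ * n := by
    calc n * y₀ = (n * n) * x₀ * n⁻¹ := by rw [← hy₀def]; group
      _ = x₀ * (n * n) * n⁻¹ := by rw [hnn, ← hx₀j]
      _ = x₀ * n := by group
  have hnt : n * t₀ = t₀ * n := by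
    rw [← ht₀def]
    calc n * (x₀ * y₀) = (n * x₀) * y₀ := (mul_assoc _ _ _).symm
      _ = y₀ * (n * y₀) := by rw [hnx, mul_assoc]
      _ = y₀ * (x₀ * n) := by rw [hny]
      _ = x₀ * y₀ * n := by rw [← mul_assoc, ← hxy]
  -- elements of `L₁ ⊓ L₂` have square one
  have hmeet : ∀ z, z ∈ L₁ → z ∈ L₂ → z ^ 2 = 1 := by
    intro z h1 h2
    have hz : z ∈ L₁ ⊓ L₂ := ⟨h1, h2⟩
    rw [hC.meet, Subgroup.mem_zpowers_iff] at hz
    obtain ⟨k, rfl⟩ := hz
    rw [← zpow_natCast, ← zpow_mul, mul_comm, zpow_mul, zpow_natCast, hjsq, one_zpow]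
  have hx₀L₂ : x₀ ∉ L₂ := fun h => hj1 (by rw [← hx₀sq]; exact hmeet x₀ hx₀ h)
  have hy₀L₁ : y₀ ∉ L₁ := fun h => hj1 (by rw [← hy₀sq]; exact hmeet y₀ h hy₀L)
  have hnL₁ : n ∉ L₁ := by
    intro h
    apply hy₀L₁
    rw [← hy₀def]
    exact L₁.mul_mem (L₁.mul_mem h hx₀) (L₁.inv_mem h)
  have hnL₂ : n ∉ L₂ := by
    intro h
    apply hx₀L₂
    have : x₀ = n⁻¹ * y₀ * n := by rw [← hy₀def]; group
    rw [this]
    exact L₂.mul_mem (L₂.mul_mem (L₂.inv_mem h) hy₀L) h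
  have hxi : x₀⁻¹ ∈ L₁ := L₁.inv_mem hx₀
  have hyi : y₀⁻¹ ∈ L₂ := L₂.inv_mem hy₀L
  have hxiL₂ : x₀⁻¹ ∉ L₂ := fun h => hx₀L₂ (by simpa using L₂.inv_mem h)
  have hyiL₁ : y₀⁻¹ ∉ L₁ := fun h => hy₀L₁ (by simpa using L₁.inv_mem h)
  have hxxi : x₀ ≠ x₀⁻¹ := by
    intro h
    apply hj1
    rw [← hx₀sq, pow_two]
    nth_rewrite 2 [h]
    exact mul_inv_cancel x₀
  have hyyi : y₀ ≠ y₀⁻¹ := by
    intro h
    apply hj1
    rw [← hy₀sq, pow_two]
    nth_rewrite 2 [h]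
    exact mul_inv_cancel y₀
  -- the sets
  let A : Set G := {r : G | r * j = j * r ∧ r * t₀ = t₀ * r ∧ r ^ 2 = t₀}
  let B : Set G := {r : G | r * j = j * r ∧ r * t₀ = t₀ * r ∧ r ^ 2 = j}
  let Y : Set G := ((L₁ ⊔ L₂ : Subgroup G) : Set G)
  let D : Set G := {x₀, x₀⁻¹, y₀, y₀⁻¹}
  let I : Set G := (fun r => r * x₀) '' (A \ Y)
  have hL₁Y : ∀ z, z ∈ L₁ → z ∈ Y := fun z hz => (le_sup_left : L₁ ≤ L₁ ⊔ L₂) hz
  have hL₂Y : ∀ z, z ∈ L₂ → z ∈ Y := fun z hz => (le_sup_right : L₂ ≤ L₁ ⊔ L₂) hz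
  -- membership in `B` is stable under inverses
  have hBinv : ∀ r, r ∈ B → r⁻¹ ∈ B := by
    rintro r ⟨h1, h2, h3⟩
    refine ⟨?_, ?_, ?_⟩
    · exact (Commute.inv_left (show Commute r j from h1)).eq
    · exact (Commute.inv_left (show Commute r t₀ from h2)).eq
    · rw [inv_pow, h3, hjinv]
  have hxB : x₀ ∈ B := ⟨hx₀j, hx₀t, hx₀sq⟩
  have hyB : y₀ ∈ B := ⟨hy₀j, hy₀t, hy₀sq⟩
  have hnB : n ∈ B := ⟨hnj, hnt, hC.hn2⟩
  have hDB : D ⊆ B := by
    intro r hr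
    simp only [D, Set.mem_insert_iff, Set.mem_singleton_iff] at hr
    rcases hr with rfl | rfl | rfl | rfl
    · exact hxB
    · exact hBinv _ hxB
    · exact hyB
    · exact hBinv _ hyB
  have hDY : D ⊆ Y := by
    intro r hr
    simp only [D, Set.mem_insert_iff, Set.mem_singleton_iff] at hr
    rcases hr with rfl | rfl | rfl | rfl
    · exact hL₁Y _ hx₀
    · exact hL₁Y _ hxi
    · exact hL₂Y _ hy₀L
    · exact hL₂Y _ hyi
  have hnD : n ∉ D := by
    intro hr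
    simp only [D, Set.mem_insert_iff, Set.mem_singleton_iff] at hr
    rcases hr with h | h | h | h
    · exact hnL₁ (h ▸ hx₀)
    · exact hnL₁ (h ▸ hxi)
    · exact hnL₂ (h ▸ hy₀L)
    · exact hnL₂ (h ▸ hyi)
  have hIfacts : ∀ r, r ∈ A \ Y → r * x₀ ∈ B ∧ r * x₀ ≠ n ∧ r * x₀ ∉ Y := by
    rintro r ⟨⟨h1, h2, h3⟩, hrY⟩
    have hrC : r ∈ Subgroup.centralizer ({j} : Set G) := by
      rw [Subgroup.mem_centralizer_iff]
      intro h hh
      rw [Set.mem_singleton_iff] at hh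
      rw [hh]
      exact h1.symm
    obtain ⟨hsq, hne⟩ := hPhi r hrC hrY h2 h3
    refine ⟨⟨?_, ?_, hsq⟩, hne, ?_⟩
    · exact (Commute.mul_left (show Commute r j from h1) (show Commute x₀ j from hx₀j)).eq
    · exact (Commute.mul_left (show Commute r t₀ from h2) (show Commute x₀ t₀ from hx₀t)).eq
    · intro hY
      apply hrY
      have : r = (r * x₀) * x₀⁻¹ := by group
      rw [this]
      exact (L₁ ⊔ L₂).mul_mem hY (hL₁Y _ hxi)
  have hIB : I ⊆ B := by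
    rintro s ⟨r, hr, rfl⟩
    exact (hIfacts r hr).1
  have hnI : n ∉ I := by
    rintro ⟨r, hr, hrn⟩
    exact (hIfacts r hr).2.1 hrn
  have hDI : Disjoint D (insert n I) := by
    rw [Set.disjoint_left]
    intro s hsD hsI
    rcases hsI with rfl | ⟨r, hr, rfl⟩
    · exact hnD hsD
    · exact (hIfacts r hr).2.2 (hDY hsD)
  -- cardinalities
  have hD4 : D.ncard = 4 := by
    have h3 : ({y₀, y₀⁻¹} : Set G).ncard = 2 := Set.ncard_pair hyyi
    have hm2 : x₀⁻¹ ∉ ({y₀, y₀⁻¹} : Set G) := by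
      intro h
      simp only [Set.mem_insert_iff, Set.mem_singleton_iff] at h
      rcases h with h | h
      · exact hxiL₂ (h ▸ hy₀L)
      · exact hxiL₂ (h ▸ hyi)
    have h2 : ({x₀⁻¹, y₀, y₀⁻¹} : Set G).ncard = 3 := by
      rw [Set.ncard_insert_of_notMem hm2 (Set.toFinite _), h3]
    have hm1 : x₀ ∉ ({x₀⁻¹, y₀, y₀⁻¹} : Set G) := by
      intro h
      simp only [Set.mem_insert_iff, Set.mem_singleton_iff] at h
      rcases h with h | h | h
      · exact hxxi h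
      · exact hx₀L₂ (h ▸ hy₀L)
      · exact hx₀L₂ (h ▸ hyi)
    show (insert x₀ ({x₀⁻¹, y₀, y₀⁻¹} : Set G)).ncard = 4
    rw [Set.ncard_insert_of_notMem hm1 (Set.toFinite _), h2]
  have hIn : I.ncard = (A \ Y).ncard :=
    Set.ncard_image_of_injective _ (mul_left_injective x₀)
  have hA : A ⊆ ({a, a * j, b, b * j} : Set G) ∪ (A \ Y) := by
    intro r hr
    by_cases hrY : r ∈ Y
    · left
      have := hab r hrY hr.2.2
      simp only [Set.mem_insert_iff, Set.mem_singleton_iff]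
      exact this
    · right
      exact ⟨hr, hrY⟩
  have hA4 : ({a, a * j, b, b * j} : Set G).ncard ≤ 4 := by
    have h1 := Set.ncard_insert_le a ({a * j, b, b * j} : Set G)
    have h2 := Set.ncard_insert_le (a * j) ({b, b * j} : Set G)
    have h3 := Set.ncard_insert_le b ({b * j} : Set G)
    have h4 := Set.ncard_singleton (b * j)
    omega
  have hAle : A.ncard ≤ 4 + (A \ Y).ncard := by
    have h1 := Set.ncard_le_ncard hA (Set.toFinite _)
    have h2 := Set.ncard_union_le ({a, a * j, b, b * j} : Set G) (A \ Y)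
    omega
  have hsub : D ∪ insert n I ⊆ B := Set.union_subset hDB (Set.insert_subset hnB hIB)
  have hcard : (D ∪ insert n I).ncard = 4 + (I.ncard + 1) := by
    rw [Set.ncard_union_eq hDI (Set.toFinite _) (Set.toFinite _), hD4,
      Set.ncard_insert_of_notMem hnI (Set.toFinite _)]
  have hBge := Set.ncard_le_ncard hsub (Set.toFinite B)
  have e1 : Nat.card {r : G // r * j = j * r ∧ r * t₀ = t₀ * r ∧ r ^ 2 = t₀} = A.ncard :=
    Nat.card_coe_set_eq A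
  have e2 : Nat.card {r : G // r * j = j * r ∧ r * t₀ = t₀ * r ∧ r ^ 2 = j} = B.ncard :=
    Nat.card_coe_set_eq B
  refine lt_of_eq_of_lt e1 (lt_of_lt_of_eq ?_ e2.symm)
  omega

end Cfsg.Agent.Lib.Helper39.FW
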